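import Cfsg.Agent.L0.ON.Cov3T

/-! Generated checks. -/

set_option autoImplicit false
set_option maxRecDepth 100000

namespace Cfsg.Agent.L0.ONCov3

theorem b56 : allR chk 10 56 = true := by decide +kernel
theorem b57 : allR chk 10 57 = true := by decide +kernel
theorem b58 : allR chk 10 58 = true := by decide +kernel
theorem b59 : allR chk 10 59 = true := by decide +kernel
theorem b60 : allR chk 10 60 = true := by decide +kernel
theorem b61 : allR chk 10 61 = true := by decide +kernel
theorem b62 : allR chk 10 62 = true := by decide +kernel
theorem b63 : allR chk 10 63 = true := by decide +kernel
theorem b64 : allR chk 10 64 = true := by decide +kernel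
theorem b65 : allR chk 10 65 = true := by decide +kernel
theorem b66 : allR chk 10 66 = true := by decide +kernel
theorem b67 : allR chk 10 67 = true := by decide +kernel
theorem b68 : allR chk 10 68 = true := by decide +kernel
theorem b69 : allR chk 10 69 = true := by decide +kernel
theorem b70 : allR chk 10 70 = true := by decide +kernel
theorem b71 : allR chk 10 71 = true := by decide +kernel
theorem b72 : allR chk 10 72 = true := by decide +kernel
theorem b73 : allR chk 10 73 = true := by decide +kernel
theorem b74 : allR chk 10 74 = true := by decide +kernel
theorem b75 : allR chk 10 75 = true := by decide +kernel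
theorem b76 : allR chk 10 76 = true := by decide +kernel
theorem b77 : allR chk 10 77 = true := by decide +kernel
theorem b78 : allR chk 10 78 = true := by decide +kernel
theorem b79 : allR chk 10 79 = true := by decide +kernel
theorem b80 : allR chk 10 80 = true := by decide +kernel
theorem b81 : allR chk 10 81 = true := by decide +kernel
theorem b82 : allR chk 10 82 = true := by decide +kernel
theorem b83 : allR chk 10 83 = true := by decide +kernel

end Cfsg.Agent.L0.ONCov3
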