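import Cfsg.Agent.L0.ON.Cov3T

/-! Generated checks. -/

set_option autoImplicit false
set_option maxRecDepth 100000

namespace Cfsg.Agent.L0.ONCov3

theorem b84 : allR chk 10 84 = true := by decide +kernel
theorem b85 : allR chk 10 85 = true := by decide +kernel
theorem b86 : allR chk 10 86 = true := by decide +kernel
theorem b87 : allR chk 10 87 = true := by decide +kernel
theorem b88 : allR chk 10 88 = true := by decide +kernel
theorem b89 : allR chk 10 89 = true := by decide +kernel
theorem b90 : allR chk 10 90 = true := by decide +kernel
theorem b91 : allR chk 10 91 = true := by decide +kernel
theorem b92 : allR chk 10 92 = true := by decide +kernel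
theorem b93 : allR chk 10 93 = true := by decide +kernel
theorem b94 : allR chk 10 94 = true := by decide +kernel
theorem b95 : allR chk 10 95 = true := by decide +kernel
theorem b96 : allR chk 10 96 = true := by decide +kernel
theorem b97 : allR chk 10 97 = true := by decide +kernel
theorem b98 : allR chk 10 98 = true := by decide +kernel
theorem b99 : allR chk 10 99 = true := by decide +kernel
theorem b100 : allR chk 10 100 = true := by decide +kernel
theorem b101 : allR chk 10 101 = true := by decide +kernel
theorem b102 : allR chk 10 102 = true := by decide +kernel
theorem b103 : allR chk 10 103 = true := by decide +kernel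
theorem b104 : allR chk 10 104 = true := by decide +kernel
theorem b105 : allR chk 10 105 = true := by decide +kernel
theorem b106 : allR chk 10 106 = true := by decide +kernel
theorem b107 : allR chk 10 107 = true := by decide +kernel
theorem b108 : allR chk 10 108 = true := by decide +kernel
theorem b109 : allR chk 10 109 = true := by decide +kernel
theorem b110 : allR chk 10 110 = true := by decide +kernel
theorem b111 : allR chk 10 111 = true := by decide +kernel

end Cfsg.Agent.L0.ONCov3
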