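import Cfsg.Agent.L0.ON.Cov3T

/-! Generated checks. -/

set_option autoImplicit false
set_option maxRecDepth 100000

namespace Cfsg.Agent.L0.ONCov3

theorem b112 : allR chk 10 112 = true := by decide +kernel
theorem b113 : allR chk 10 113 = true := by decide +kernel
theorem b114 : allR chk 10 114 = true := by decide +kernel
theorem b115 : allR chk 10 115 = true := by decide +kernel
theorem b116 : allR chk 10 116 = true := by decide +kernel
theorem b117 : allR chk 10 117 = true := by decide +kernel
theorem b118 : allR chk 10 118 = true := by decide +kernel
theorem b119 : allR chk 10 119 = true := by decide +kernel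

end Cfsg.Agent.L0.ONCov3
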