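import Cfsg.Agent.L0.ON.Tc1T

/-! Generated checks. -/

set_option autoImplicit false
set_option maxRecDepth 100000

namespace Cfsg.Agent.L0.ONTc1

theorem b160 : allR chk 9 160 = true := by decide +kernel
theorem b161 : allR chk 9 161 = true := by decide +kernel
theorem b162 : allR chk 9 162 = true := by decide +kernel
theorem b163 : allR chk 9 163 = true := by decide +kernel
theorem b164 : allR chk 9 164 = true := by decide +kernel
theorem b165 : allR chk 9 165 = true := by decide +kernel
theorem b166 : allR chk 9 166 = true := by decide +kernel
theorem b167 : allR chk 9 167 = true := by decide +kernel
theorem b168 : allR chk 9 168 = true := by decide +kernel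
theorem b169 : allR chk 9 169 = true := by decide +kernel
theorem b170 : allR chk 9 170 = true := by decide +kernel
theorem b171 : allR chk 9 171 = true := by decide +kernel
theorem b172 : allR chk 9 172 = true := by decide +kernel
theorem b173 : allR chk 9 173 = true := by decide +kernel
theorem b174 : allR chk 9 174 = true := by decide +kernel
theorem b175 : allR chk 9 175 = true := by decide +kernel
theorem b176 : allR chk 9 176 = true := by decide +kernel
theorem b177 : allR chk 9 177 = true := by decide +kernel
theorem b178 : allR chk 9 178 = true := by decide +kernel
theorem b179 : allR chk 9 179 = true := by decide +kernel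
theorem b180 : allR chk 9 180 = true := by decide +kernel
theorem b181 : allR chk 9 181 = true := by decide +kernel
theorem b182 : allR chk 9 182 = true := by decide +kernel
theorem b183 : allR chk 9 183 = true := by decide +kernel
theorem b184 : allR chk 9 184 = true := by decide +kernel
theorem b185 : allR chk 9 185 = true := by decide +kernel
theorem b186 : allR chk 9 186 = true := by decide +kernel
theorem b187 : allR chk 9 187 = true := by decide +kernel
theorem b188 : allR chk 9 188 = true := by decide +kernel
theorem b189 : allR chk 9 189 = true := by decide +kernel
theorem b190 : allR chk 9 190 = true := by decide +kernel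
theorem b191 : allR chk 9 191 = true := by decide +kernel
theorem b192 : allR chk 9 192 = true := by decide +kernel
theorem b193 : allR chk 9 193 = true := by decide +kernel
theorem b194 : allR chk 9 194 = true := by decide +kernel
theorem b195 : allR chk 9 195 = true := by decide +kernel
theorem b196 : allR chk 9 196 = true := by decide +kernel
theorem b197 : allR chk 9 197 = true := by decide +kernel
theorem b198 : allR chk 9 198 = true := by decide +kernel
theorem b199 : allR chk 9 199 = true := by decide +kernel

end Cfsg.Agent.L0.ONTc1
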