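import Cfsg.Agent.L0.ON.Tc1T

/-! Generated checks. -/

set_option autoImplicit false
set_option maxRecDepth 100000

namespace Cfsg.Agent.L0.ONTc1

theorem b240 : allR chk 9 240 = true := by decide +kernel
theorem b241 : allR chk 9 241 = true := by decide +kernel
theorem b242 : allR chk 9 242 = true := by decide +kernel
theorem b243 : allR chk 9 243 = true := by decide +kernel
theorem b244 : allR chk 9 244 = true := by decide +kernel
theorem b245 : allR chk 9 245 = true := by decide +kernel
theorem b246 : allR chk 9 246 = true := by decide +kernel
theorem b247 : allR chk 9 247 = true := by decide +kernel
theorem b248 : allR chk 9 248 = true := by decide +kernel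
theorem b249 : allR chk 9 249 = true := by decide +kernel
theorem b250 : allR chk 9 250 = true := by decide +kernel
theorem b251 : allR chk 9 251 = true := by decide +kernel
theorem b252 : allR chk 9 252 = true := by decide +kernel
theorem b253 : allR chk 9 253 = true := by decide +kernel
theorem b254 : allR chk 9 254 = true := by decide +kernel
theorem b255 : allR chk 9 255 = true := by decide +kernel
theorem b256 : allR chk 9 256 = true := by decide +kernel
theorem b257 : allR chk 9 257 = true := by decide +kernel
theorem b258 : allR chk 9 258 = true := by decide +kernel
theorem b259 : allR chk 9 259 = true := by decide +kernel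
theorem b260 : allR chk 9 260 = true := by decide +kernel
theorem b261 : allR chk 9 261 = true := by decide +kernel
theorem b262 : allR chk 9 262 = true := by decide +kernel
theorem b263 : allR chk 9 263 = true := by decide +kernel
theorem b264 : allR chk 9 264 = true := by decide +kernel
theorem b265 : allR chk 9 265 = true := by decide +kernel
theorem b266 : allR chk 9 266 = true := by decide +kernel
theorem b267 : allR chk 9 267 = true := by decide +kernel
theorem b268 : allR chk 9 268 = true := by decide +kernel
theorem b269 : allR chk 9 269 = true := by decide +kernel
theorem b270 : allR chk 9 270 = true := by decide +kernel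
theorem b271 : allR chk 9 271 = true := by decide +kernel
theorem b272 : allR chk 9 272 = true := by decide +kernel
theorem b273 : allR chk 9 273 = true := by decide +kernel
theorem b274 : allR chk 9 274 = true := by decide +kernel
theorem b275 : allR chk 9 275 = true := by decide +kernel
theorem b276 : allR chk 9 276 = true := by decide +kernel
theorem b277 : allR chk 9 277 = true := by decide +kernel
theorem b278 : allR chk 9 278 = true := by decide +kernel
theorem b279 : allR chk 9 279 = true := by decide +kernel

end Cfsg.Agent.L0.ONTc1
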