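import Cfsg.Agent.L0.ON.Tc1T

/-! Generated checks. -/

set_option autoImplicit false
set_option maxRecDepth 100000

namespace Cfsg.Agent.L0.ONTc1

theorem b320 : allR chk 9 320 = true := by decide +kernel
theorem b321 : allR chk 9 321 = true := by decide +kernel
theorem b322 : allR chk 9 322 = true := by decide +kernel
theorem b323 : allR chk 9 323 = true := by decide +kernel
theorem b324 : allR chk 9 324 = true := by decide +kernel
theorem b325 : allR chk 9 325 = true := by decide +kernel
theorem b326 : allR chk 9 326 = true := by decide +kernel
theorem b327 : allR chk 9 327 = true := by decide +kernel
theorem b328 : allR chk 9 328 = true := by decide +kernel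
theorem b329 : allR chk 9 329 = true := by decide +kernel
theorem b330 : allR chk 9 330 = true := by decide +kernel
theorem b331 : allR chk 9 331 = true := by decide +kernel
theorem b332 : allR chk 9 332 = true := by decide +kernel
theorem b333 : allR chk 9 333 = true := by decide +kernel
theorem b334 : allR chk 9 334 = true := by decide +kernel
theorem b335 : allR chk 9 335 = true := by decide +kernel
theorem b336 : allR chk 9 336 = true := by decide +kernel
theorem b337 : allR chk 9 337 = true := by decide +kernel
theorem b338 : allR chk 9 338 = true := by decide +kernel
theorem b339 : allR chk 9 339 = true := by decide +kernel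
theorem b340 : allR chk 9 340 = true := by decide +kernel
theorem b341 : allR chk 9 341 = true := by decide +kernel
theorem b342 : allR chk 9 342 = true := by decide +kernel
theorem b343 : allR chk 9 343 = true := by decide +kernel
theorem b344 : allR chk 9 344 = true := by decide +kernel
theorem b345 : allR chk 9 345 = true := by decide +kernel
theorem b346 : allR chk 9 346 = true := by decide +kernel
theorem b347 : allR chk 9 347 = true := by decide +kernel
theorem b348 : allR chk 9 348 = true := by decide +kernel
theorem b349 : allR chk 9 349 = true := by decide +kernel
theorem b350 : allR chk 9 350 = true := by decide +kernel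
theorem b351 : allR chk 9 351 = true := by decide +kernel
theorem b352 : allR chk 9 352 = true := by decide +kernel
theorem b353 : allR chk 9 353 = true := by decide +kernel
theorem b354 : allR chk 9 354 = true := by decide +kernel
theorem b355 : allR chk 9 355 = true := by decide +kernel
theorem b356 : allR chk 9 356 = true := by decide +kernel
theorem b357 : allR chk 9 357 = true := by decide +kernel
theorem b358 : allR chk 9 358 = true := by decide +kernel
theorem b359 : allR chk 9 359 = true := by decide +kernel

end Cfsg.Agent.L0.ONTc1
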