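import Cfsg.Agent.L0.ON.Tc1C0
import Cfsg.Agent.L0.ON.Tc1C1
import Cfsg.Agent.L0.ON.Tc1C2
import Cfsg.Agent.L0.ON.Tc1C3
import Cfsg.Agent.L0.ON.Tc1C4
import Cfsg.Agent.L0.ON.Tc1C5
import Cfsg.Agent.L0.ON.Tc1C6
import Cfsg.Agent.L0.ON.Tc1C7
import Cfsg.Agent.L0.ON.Tc1C8
import Cfsg.Agent.L0.ON.Tc1C9

/-! Generated coset table certificate. -/

set_option autoImplicit false
set_option maxRecDepth 100000

namespace Cfsg.Agent.L0.ONTc1

noncomputable def T : CT := ⟨row, nat_lit 194938, nat_lit 122760, nat_lit 0x3ffff, nat_lit 0xffc0000, nat_lit 28, nat_lit 0xff, nat_lit 0, nat_lit 0x3ffff, nat_lit 18, nat_lit 0x1ff, nat_lit 0xf8000000, nat_lit 320, nat_lit 356, nat_lit 4, nat_lit 20, [], cols, erots, gens⟩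

theorem a50 : ∀ j < 50, allR chk 9 j = true := (forall_lt_succ' (forall_lt_succ' (forall_lt_succ' (forall_lt_succ' (forall_lt_succ' (forall_lt_succ' (forall_lt_succ' (forall_lt_succ' (forall_lt_succ' (forall_lt_succ' (forall_lt_succ' (forall_lt_succ' (forall_lt_succ' (forall_lt_succ' (forall_lt_succ' (forall_lt_succ' (forall_lt_succ' (forall_lt_succ' (forall_lt_succ' (forall_lt_succ' (forall_lt_succ' (forall_lt_succ' (forall_lt_succ' (forall_lt_succ' (forall_lt_succ' (forall_lt_succ' (forall_lt_succ' (forall_lt_succ' (forall_lt_succ' (forall_lt_succ' (forall_lt_succ' (forall_lt_succ' (forall_lt_succ' (forall_lt_succ' (forall_lt_succ' (forall_lt_succ' (forall_lt_succ' (forall_lt_succ' (forall_lt_succ' (forall_lt_succ' (forall_lt_succ' (forall_lt_succ' (forall_lt_succ' (forall_lt_succ' (forall_lt_succ' (forall_lt_succ' (forall_lt_succ' (forall_lt_succ' (forall_lt_succ' (forall_lt_succ' forall_lt_zero' b0) b1) b2) b3) b4) b5) b6) b7) b8) b9) b10) b11) b12) b13)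 b14) b15) b16) b17) b18) b19) b20) b21) b22) b23) b24) b25) b26) b27) b28) b29) b30) b31) b32) b33) b34) b35) b36) b37) b38) b39) b40) b41) b42) b43) b44) b45) b46) b47) b48) b49)
theorem a100 : ∀ j < 100, allR chk 9 j = true := (forall_lt_succ' (forall_lt_succ' (forall_lt_succ' (forall_lt_succ' (forall_lt_succ' (forall_lt_succ' (forall_lt_succ' (forall_lt_succ' (forall_lt_succ' (forall_lt_succ' (forall_lt_succ' (forall_lt_succ' (forall_lt_succ' (forall_lt_succ' (forall_lt_succ' (forall_lt_succ' (forall_lt_succ' (forall_lt_succ' (forall_lt_succ' (forall_lt_succ' (forall_lt_succ' (forall_lt_succ' (forall_lt_succ' (forall_lt_succ' (forall_lt_succ' (forall_lt_succ' (forall_lt_succ' (forall_lt_succ' (forall_lt_succ' (forall_lt_succ' (forall_lt_succ' (forall_lt_succ' (forall_lt_succ' (forall_lt_succ' (forall_lt_succ' (forall_lt_succ' (forall_lt_succ' (forall_lt_succ' (forall_lt_succ' (forall_lt_succ' (forall_lt_succ' (forall_lt_succ' (forall_lt_succ' (forall_lt_succ'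 (forall_lt_succ' (forall_lt_succ' (forall_lt_succ' (forall_lt_succ' (forall_lt_succ' (forall_lt_succ' a50 b50) b51) b52) b53) b54) b55) b56) b57) b58) b59) b60) b61) b62) b63) b64) b65) b66) b67) b68) b69) b70) b71) b72) b73) b74) b75) b76) b77) b78) b79) b80) b81) b82) b83) b84) b85) b86) b87) b88) b89) b90) b91) b92) b93) b94) b95) b96) b97) b98) b99)
theorem a150 : ∀ j < 150, allR chk 9 j = true := (forall_lt_succ' (forall_lt_succ' (forall_lt_succ' (forall_lt_succ' (forall_lt_succ' (forall_lt_succ' (forall_lt_succ' (forall_lt_succ' (forall_lt_succ' (forall_lt_succ' (forall_lt_succ' (forall_lt_succ' (forall_lt_succ' (forall_lt_succ' (forall_lt_succ' (forall_lt_succ' (forall_lt_succ' (forall_lt_succ' (forall_lt_succ' (forall_lt_succ' (forall_lt_succ' (forall_lt_succ' (forall_lt_succ' (forall_lt_succ' (forall_lt_succ' (forall_lt_succ' (forall_lt_succ' (forall_lt_succ' (forall_lt_succ' (forall_lt_succ' (forall_lt_succ' (forall_lt_succ' (forall_lt_succ' (forall_lt_succ'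 (forall_lt_succ' (forall_lt_succ' (forall_lt_succ' (forall_lt_succ' (forall_lt_succ' (forall_lt_succ' (forall_lt_succ' (forall_lt_succ' (forall_lt_succ' (forall_lt_succ' (forall_lt_succ' (forall_lt_succ' (forall_lt_succ' (forall_lt_succ' (forall_lt_succ' (forall_lt_succ' a100 b100) b101) b102) b103) b104) b105) b106) b107) b108) b109) b110) b111) b112) b113) b114) b115) b116) b117) b118) b119) b120) b121) b122) b123) b124) b125) b126) b127) b128) b129) b130) b131) b132) b133) b134) b135) b136) b137) b138) b139) b140) b141) b142) b143) b144) b145) b146) b147) b148) b149)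
theorem a200 : ∀ j < 200, allR chk 9 j = true := (forall_lt_succ' (forall_lt_succ' (forall_lt_succ' (forall_lt_succ' (forall_lt_succ' (forall_lt_succ' (forall_lt_succ' (forall_lt_succ' (forall_lt_succ' (forall_lt_succ' (forall_lt_succ' (forall_lt_succ' (forall_lt_succ' (forall_lt_succ' (forall_lt_succ' (forall_lt_succ' (forall_lt_succ' (forall_lt_succ' (forall_lt_succ' (forall_lt_succ' (forall_lt_succ' (forall_lt_succ' (forall_lt_succ' (forall_lt_succ' (forall_lt_succ' (forall_lt_succ' (forall_lt_succ' (forall_lt_succ' (forall_lt_succ' (forall_lt_succ' (forall_lt_succ' (forall_lt_succ' (forall_lt_succ' (forall_lt_succ' (forall_lt_succ' (forall_lt_succ' (forall_lt_succ' (forall_lt_succ' (forall_lt_succ' (forall_lt_succ' (forall_lt_succ' (forall_lt_succ' (forall_lt_succ' (forall_lt_succ' (forall_lt_succ' (forall_lt_succ' (forall_lt_succ' (forall_lt_succ' (forall_lt_succ' (forall_lt_succ' a150 b150) b151) b152) b153) b154) b155) b156) b157) b158) b159) b160) b161)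 b162) b163) b164) b165) b166) b167) b168) b169) b170) b171) b172) b173) b174) b175) b176) b177) b178) b179) b180) b181) b182) b183) b184) b185) b186) b187) b188) b189) b190) b191) b192) b193) b194) b195) b196) b197) b198) b199)
theorem a250 : ∀ j < 250, allR chk 9 j = true := (forall_lt_succ' (forall_lt_succ' (forall_lt_succ' (forall_lt_succ' (forall_lt_succ' (forall_lt_succ' (forall_lt_succ' (forall_lt_succ' (forall_lt_succ' (forall_lt_succ' (forall_lt_succ' (forall_lt_succ' (forall_lt_succ' (forall_lt_succ' (forall_lt_succ' (forall_lt_succ' (forall_lt_succ' (forall_lt_succ' (forall_lt_succ' (forall_lt_succ' (forall_lt_succ' (forall_lt_succ' (forall_lt_succ' (forall_lt_succ' (forall_lt_succ' (forall_lt_succ' (forall_lt_succ' (forall_lt_succ' (forall_lt_succ' (forall_lt_succ' (forall_lt_succ' (forall_lt_succ' (forall_lt_succ' (forall_lt_succ' (forall_lt_succ' (forall_lt_succ' (forall_lt_succ' (forall_lt_succ' (forall_lt_succ' (forall_lt_succ' (forall_lt_succ'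 (forall_lt_succ' (forall_lt_succ' (forall_lt_succ' (forall_lt_succ' (forall_lt_succ' (forall_lt_succ' (forall_lt_succ' (forall_lt_succ' (forall_lt_succ' a200 b200) b201) b202) b203) b204) b205) b206) b207) b208) b209) b210) b211) b212) b213) b214) b215) b216) b217) b218) b219) b220) b221) b222) b223) b224) b225) b226) b227) b228) b229) b230) b231) b232) b233) b234) b235) b236) b237) b238) b239) b240) b241) b242) b243) b244) b245) b246) b247) b248) b249)
theorem a300 : ∀ j < 300, allR chk 9 j = true := (forall_lt_succ' (forall_lt_succ' (forall_lt_succ' (forall_lt_succ' (forall_lt_succ' (forall_lt_succ' (forall_lt_succ' (forall_lt_succ' (forall_lt_succ' (forall_lt_succ' (forall_lt_succ' (forall_lt_succ' (forall_lt_succ' (forall_lt_succ' (forall_lt_succ' (forall_lt_succ' (forall_lt_succ' (forall_lt_succ' (forall_lt_succ' (forall_lt_succ' (forall_lt_succ' (forall_lt_succ' (forall_lt_succ' (forall_lt_succ' (forall_lt_succ' (forall_lt_succ' (forall_lt_succ' (forall_lt_succ'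 (forall_lt_succ' (forall_lt_succ' (forall_lt_succ' (forall_lt_succ' (forall_lt_succ' (forall_lt_succ' (forall_lt_succ' (forall_lt_succ' (forall_lt_succ' (forall_lt_succ' (forall_lt_succ' (forall_lt_succ' (forall_lt_succ' (forall_lt_succ' (forall_lt_succ' (forall_lt_succ' (forall_lt_succ' (forall_lt_succ' (forall_lt_succ' (forall_lt_succ' (forall_lt_succ' (forall_lt_succ' a250 b250) b251) b252) b253) b254) b255) b256) b257) b258) b259) b260) b261) b262) b263) b264) b265) b266) b267) b268) b269) b270) b271) b272) b273) b274) b275) b276) b277) b278) b279) b280) b281) b282) b283) b284) b285) b286) b287) b288) b289) b290) b291) b292) b293) b294) b295) b296) b297) b298) b299)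
theorem a350 : ∀ j < 350, allR chk 9 j = true := (forall_lt_succ' (forall_lt_succ' (forall_lt_succ' (forall_lt_succ' (forall_lt_succ' (forall_lt_succ' (forall_lt_succ' (forall_lt_succ' (forall_lt_succ' (forall_lt_succ' (forall_lt_succ' (forall_lt_succ' (forall_lt_succ' (forall_lt_succ' (forall_lt_succ' (forall_lt_succ' (forall_lt_succ' (forall_lt_succ' (forall_lt_succ' (forall_lt_succ' (forall_lt_succ' (forall_lt_succ' (forall_lt_succ' (forall_lt_succ' (forall_lt_succ' (forall_lt_succ' (forall_lt_succ' (forall_lt_succ' (forall_lt_succ' (forall_lt_succ' (forall_lt_succ' (forall_lt_succ' (forall_lt_succ' (forall_lt_succ' (forall_lt_succ' (forall_lt_succ' (forall_lt_succ' (forall_lt_succ' (forall_lt_succ' (forall_lt_succ' (forall_lt_succ' (forall_lt_succ' (forall_lt_succ' (forall_lt_succ' (forall_lt_succ' (forall_lt_succ' (forall_lt_succ' (forall_lt_succ' (forall_lt_succ' (forall_lt_succ' a300 b300) b301) b302) b303) b304) b305) b306) b307) b308) b309) b310) b311)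 b312) b313) b314) b315) b316) b317) b318) b319) b320) b321) b322) b323) b324) b325) b326) b327) b328) b329) b330) b331) b332) b333) b334) b335) b336) b337) b338) b339) b340) b341) b342) b343) b344) b345) b346) b347) b348) b349)
theorem all : ∀ c < 194938, chk c = true := fun c hc =>
  allR_glue (d := 9) (n := 381) (forall_lt_succ' (forall_lt_succ' (forall_lt_succ' (forall_lt_succ' (forall_lt_succ' (forall_lt_succ' (forall_lt_succ' (forall_lt_succ' (forall_lt_succ' (forall_lt_succ' (forall_lt_succ' (forall_lt_succ' (forall_lt_succ' (forall_lt_succ' (forall_lt_succ' (forall_lt_succ' (forall_lt_succ' (forall_lt_succ' (forall_lt_succ' (forall_lt_succ' (forall_lt_succ' (forall_lt_succ' (forall_lt_succ' (forall_lt_succ' (forall_lt_succ' (forall_lt_succ' (forall_lt_succ' (forall_lt_succ' (forall_lt_succ' (forall_lt_succ' (forall_lt_succ' a350 b350) b351) b352) b353) b354) b355) b356) b357) b358) b359) b360) b361) b362) b363) b364) b365) b366) b367) b368) b369) b370)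 b371) b372) b373) b374) b375) b376) b377) b378) b379) b380) c (lt_of_lt_of_le hc (by norm_num))

/-- the relators used -/
def R : List (List ℕ) := [[nat_lit 0, nat_lit 7],
  [nat_lit 1, nat_lit 1],
  [nat_lit 2, nat_lit 2],
  [nat_lit 3, nat_lit 3],
  [nat_lit 4, nat_lit 4],
  [nat_lit 5, nat_lit 5],
  [nat_lit 6, nat_lit 6],
  [nat_lit 1, nat_lit 2, nat_lit 1, nat_lit 2, nat_lit 1, nat_lit 2],
  [nat_lit 1, nat_lit 3, nat_lit 1, nat_lit 3],
  [nat_lit 1, nat_lit 4, nat_lit 1, nat_lit 4],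
  [nat_lit 1, nat_lit 5, nat_lit 1, nat_lit 5],
  [nat_lit 1, nat_lit 6, nat_lit 1, nat_lit 6],
  [nat_lit 2, nat_lit 3, nat_lit 2, nat_lit 3, nat_lit 2, nat_lit 3],
  [nat_lit 2, nat_lit 4, nat_lit 2, nat_lit 4],
  [nat_lit 2, nat_lit 5, nat_lit 2, nat_lit 5],
  [nat_lit 2, nat_lit 6, nat_lit 2, nat_lit 6],
  [nat_lit 3, nat_lit 4, nat_lit 3, nat_lit 4, nat_lit 3, nat_lit 4, nat_lit 3, nat_lit 4, nat_lit 3, nat_lit 4, nat_lit 3, nat_lit 4, nat_lit 3, nat_lit 4, nat_lit 3, nat_lit 4],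
  [nat_lit 3, nat_lit 5, nat_lit 3, nat_lit 5],
  [nat_lit 3, nat_lit 6, nat_lit 3, nat_lit 6],
  [nat_lit 4, nat_lit 5, nat_lit 4, nat_lit 5, nat_lit 4, nat_lit 5],
  [nat_lit 4, nat_lit 6, nat_lit 4, nat_lit 6],
  [nat_lit 5, nat_lit 6, nat_lit 5, nat_lit 6, nat_lit 5, nat_lit 6],
  [nat_lit 1, nat_lit 6, nat_lit 7, nat_lit 7],
  [nat_lit 1, nat_lit 6, nat_lit 4, nat_lit 3, nat_lit 4, nat_lit 3, nat_lit 4, nat_lit 3, nat_lit 4, nat_lit 3],
  [nat_lit 3, nat_lit 7, nat_lit 4, nat_lit 7, nat_lit 4, nat_lit 3, nat_lit 4, nat_lit 0, nat_lit 4, nat_lit 0],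
  [nat_lit 4, nat_lit 7, nat_lit 3, nat_lit 7, nat_lit 3, nat_lit 4, nat_lit 3, nat_lit 0, nat_lit 3, nat_lit 0],
  [nat_lit 2, nat_lit 3, nat_lit 4, nat_lit 0, nat_lit 2, nat_lit 3, nat_lit 4, nat_lit 0, nat_lit 2, nat_lit 3, nat_lit 4, nat_lit 0, nat_lit 2, nat_lit 3, nat_lit 4, nat_lit 0, nat_lit 2, nat_lit 3, nat_lit 4, nat_lit 0],
  [nat_lit 0, nat_lit 2, nat_lit 3, nat_lit 0, nat_lit 3, nat_lit 2, nat_lit 0, nat_lit 2, nat_lit 3, nat_lit 0, nat_lit 3],
  [nat_lit 0, nat_lit 5, nat_lit 4, nat_lit 0, nat_lit 4, nat_lit 5, nat_lit 0, nat_lit 5, nat_lit 4, nat_lit 0, nat_lit 4]]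

theorem cert : Cert T (R.map fun r => (r, 0)) ([1, 2, 3, 4, 5, 6].map fun y => (y, 0)) 32 36 [0, 1, 2, 3, 4, 5, 6, 7] :=
  ⟨by decide +kernel, ⟨[[(0, 0), (24, 7), (25, 7), (27, 3), (27, 6), (24, 9), (28, 6), (28, 3), (27, 0), (28, 0), (28, 9), (27, 9), (25, 9), (26, 3)], [(1, 0), (9, 0), (10, 0), (8, 0), (11, 0), (22, 0), (7, 0), (23, 0)], [(2, 0), (13, 0), (14, 0), (15, 0), (7, 1), (12, 0), (27, 5), (27, 7), (27, 1), (26, 0)], [(3, 0), (8, 1), (17, 0), (18, 0), (12, 1), (27, 4), (25, 8), (23, 3), (27, 10), (24, 0), (25, 4), (27, 2), (27, 8), (25, 2), (23, 5), (25, 6), (24, 5), (23, 7), (23, 9), (26, 1)], [(4, 0), (9, 1), (13, 1), (20, 0), (24, 8), (19, 0), (28, 4), (24, 4), (23, 4), (28, 10), (24, 2), (28, 2), (28, 8), (25, 0), (24, 6), (26, 2), (23, 2), (25, 5), (23, 6), (23, 8)], [(5, 0), (10, 1), (14, 1), (17, 1), (19, 1), (28, 5), (21, 0), (28, 7), (28, 1)], [(6, 0), (11, 1), (15, 1), (18, 1), (20, 1), (22, 1), (21, 1), (23, 1)], [(0, 1), (22, 2), (22,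 3), (24, 3), (25, 3), (24, 1), (25, 1)]], [(5, 0), (4, 0), (3, 0), (0, 1), (2, 0), (0, 0), (6, 0), (1, 0), (22, 2), (22, 0), (28, 7), (28, 6), (27, 7), (27, 6), (27, 0), (22, 3), (28, 0), (27, 4), (9, 1), (27, 3), (18, 1), (27, 1), (28, 4), (28, 3), (27, 10), (28, 1), (25, 3), (10, 1), (28, 10), (20, 1), (15, 0), (28, 8), (9, 0), (25, 8), (18, 0), (15, 1), (27, 9), (10, 0), (27, 8), (13, 0), (7, 1), (14, 1), (21, 1), (25, 1), (24, 3), (28, 9), (8, 0), (8, 1), (13, 1), (14, 0), (24, 1), (17, 1), (25, 4), (28, 5), (20, 0), (24, 8), (28, 2), (17, 0), (27, 5), (26, 0), (27, 2), (25, 7), (21, 0), (26, 3), (19, 1), (19, 0), (12, 1), (24, 4), (7, 0), (26, 1), (25, 2), (25, 0), (24, 2), (12, 0), (26, 2), (24, 0), (24, 7), (25, 9), (24, 9), (25, 5), (24, 5), (24, 6), (23, 3), (23, 5), (23, 2), (23, 4), (25, 6), (23, 6), (23, 8), (23, 7), (22, 1), (23, 0), (11, 1), (11, 0), (23, 9), (23, 1), (16, 0), (16, 1)], by decide +kernel⟩, by decide +kernel, Or.inr all⟩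

theorem bound {Γ : Type*} [Group Γ] {x : ℕ → Γ} (hR : ∀ r ∈ R, ev x r = 1) {n : ℕ}
    (h : CardLe x [1, 2, 3, 4, 5, 6] n) : CardLe x [0, 1, 2, 3, 4, 5, 6, 7] (122760 * n) :=
  cert.cardLe rfl hR h

end Cfsg.Agent.L0.ONTc1
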