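import Cfsg.Agent.L0.CosetChain

/-! Generated coset table certificate. -/

set_option autoImplicit false
set_option maxRecDepth 100000

namespace Cfsg.Agent.L0.ONTc3

noncomputable def t0 : BT := .node (.node (.leaf (nat_lit 0x4c800042500b46a6860004412000353800005333a12d4380021490002a180010900259992a0000d04600090a00001084600f08800066a2000864000006422a444650002350800231800331802c21a1100010e8400190800210801108400c0004a400004020004024020044020000000)) (.leaf (nat_lit 0xaea000867768e2aca800128320007540004305d565147500084178002a980000ac69479a1800040ebc001548001ebd3ce43d0b8001c75a00166200085b6628e8de2000e82c))) (.leaf (nat_lit 0x73000001468e42d01300072960002778002e9457a9921600030eac001cb80025b12c10ac0480018a5400121a00002285402119a000c6a90006cc00058e68c42900f0005294000285800594a1400746480029a9c001ba800109c035921aa8001504c001152000a9684c0189d600086a5))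

noncomputable def tree : BT := t0

noncomputable def row : ℕ → ℕ := rowOf tree (nat_lit 3) (nat_lit 7) (nat_lit 113) (nat_lit 0x1ffffffffffffffffffffffffffff)

noncomputable def cols : List Col := [⟨nat_lit 29, nat_lit 1, [([nat_lit 29], nat_lit 0), ([nat_lit 65, nat_lit 29, nat_lit 65], nat_lit 0), ([nat_lit 53, nat_lit 29, nat_lit 53], nat_lit 0), ([nat_lit 41, nat_lit 29, nat_lit 41, nat_lit 29, nat_lit 41], nat_lit 0)]⟩,
  ⟨nat_lit 41, nat_lit 0, [([nat_lit 41], nat_lit 0), ([nat_lit 65, nat_lit 41, nat_lit 65], nat_lit 0), ([nat_lit 29, nat_lit 41, nat_lit 29, nat_lit 41, nat_lit 29], nat_lit 0), ([nat_lit 53, nat_lit 41, nat_lit 53, nat_lit 41, nat_lit 53], nat_lit 0)]⟩,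
  ⟨nat_lit 53, nat_lit 1, [([nat_lit 53], nat_lit 0), ([nat_lit 41, nat_lit 53, nat_lit 41, nat_lit 53, nat_lit 41], nat_lit 0), ([nat_lit 29, nat_lit 53, nat_lit 29], nat_lit 0), ([nat_lit 65, nat_lit 53, nat_lit 65, nat_lit 53, nat_lit 65, nat_lit 53, nat_lit 29, nat_lit 89, nat_lit 65], nat_lit 0)]⟩,
  ⟨nat_lit 65, nat_lit 1, [([nat_lit 65], nat_lit 0), ([nat_lit 29, nat_lit 65, nat_lit 29], nat_lit 0), ([nat_lit 41, nat_lit 65, nat_lit 41], nat_lit 0), ([nat_lit 53, nat_lit 65, nat_lit 53, nat_lit 65, nat_lit 53, nat_lit 65, nat_lit 53, nat_lit 29, nat_lit 89], nat_lit 0)]⟩,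
  ⟨nat_lit 89, nat_lit 1, [([nat_lit 29, nat_lit 89, nat_lit 29], nat_lit 0), ([nat_lit 41, nat_lit 89, nat_lit 41], nat_lit 0), ([nat_lit 53, nat_lit 89, nat_lit 53], nat_lit 0), ([nat_lit 65, nat_lit 89, nat_lit 65], nat_lit 0)]⟩]

noncomputable def erots : List (List ℕ × ℕ) := []

noncomputable def gens : List ℕ := [nat_lit 29, nat_lit 41, nat_lit 53, nat_lit 65, nat_lit 89]

noncomputable def chk : ℕ → Bool := chkRow0 row (nat_lit 21) (nat_lit 0x1f) (nat_lit 0x1e0) (nat_lit 9) (nat_lit 0x7) (nat_lit 0) (nat_lit 0x1f) (nat_lit 5) (nat_lit 0xff) (nat_lit 0x1e000) [] cols gens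

theorem b0 : allR chk 5 0 = true := by decide +kernel

noncomputable def T : CT := ⟨row, nat_lit 21, nat_lit 21, nat_lit 0x1f, nat_lit 0x1e0, nat_lit 9, nat_lit 0x7, nat_lit 0, nat_lit 0x1f, nat_lit 5, nat_lit 0xff, nat_lit 0x1e000, nat_lit 113, nat_lit 113, nat_lit 0, nat_lit 10, [], cols, erots, gens⟩

theorem all : ∀ c < 21, chk c = true := fun c hc =>
  allR_glue (d := 5) (n := 1) (forall_lt_succ' forall_lt_zero' b0) c (lt_of_lt_of_le hc (by norm_num))

/-- the relators used -/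
def R : List (List ℕ) := [[nat_lit 1, nat_lit 1],
  [nat_lit 2, nat_lit 2],
  [nat_lit 3, nat_lit 3],
  [nat_lit 4, nat_lit 4],
  [nat_lit 1, nat_lit 2, nat_lit 1, nat_lit 2, nat_lit 1, nat_lit 2],
  [nat_lit 1, nat_lit 3, nat_lit 1, nat_lit 3],
  [nat_lit 1, nat_lit 4, nat_lit 1, nat_lit 4],
  [nat_lit 1, nat_lit 6, nat_lit 1, nat_lit 6],
  [nat_lit 2, nat_lit 3, nat_lit 2, nat_lit 3, nat_lit 2, nat_lit 3],
  [nat_lit 2, nat_lit 4, nat_lit 2, nat_lit 4],
  [nat_lit 2, nat_lit 6, nat_lit 2, nat_lit 6],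
  [nat_lit 3, nat_lit 6, nat_lit 3, nat_lit 6],
  [nat_lit 4, nat_lit 6, nat_lit 4, nat_lit 6],
  [nat_lit 1, nat_lit 6, nat_lit 4, nat_lit 3, nat_lit 4, nat_lit 3, nat_lit 4, nat_lit 3, nat_lit 4, nat_lit 3]]

theorem cert : Cert T (R.map fun r => (r, 0)) ([1, 3, 4, 6].map fun y => (y, 0)) 17 12 [1, 2, 3, 4, 6] :=
  ⟨by decide +kernel, ⟨[[(0, 0), (6, 0), (5, 0), (4, 0)], [(1, 0), (9, 0), (4, 1), (8, 0)], [(2, 0), (8, 1), (5, 1), (13, 3)], [(3, 0), (6, 1), (9, 1), (13, 2)], [(7, 1), (10, 1), (11, 1), (12, 1)]], [], by decide +kernel⟩, by decide +kernel, Or.inl ⟨rfl, all⟩⟩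

theorem bound {Γ : Type*} [Group Γ] {x : ℕ → Γ} (hR : ∀ r ∈ R, ev x r = 1) {n : ℕ}
    (h : CardLe x [1, 3, 4, 6] n) : CardLe x [1, 2, 3, 4, 6] (21 * n) :=
  cert.cardLe rfl hR h

end Cfsg.Agent.L0.ONTc3
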