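import Cfsg.Agent.L0.CoxPres
import Cfsg.Prelude.Def_Spor_ON
import Cfsg.Agent.L0.ON.Cov3
import Cfsg.Agent.L0.ON.Tc6
import Cfsg.Agent.L0.ON.Tc5
import Cfsg.Agent.L0.ON.Tc4
import Cfsg.Agent.L0.ON.Tc3
import Cfsg.Agent.L0.ON.Tc2
import Cfsg.Agent.L0.ON.Tc1

/-! The presented group ON: order bound and permutation action. -/

set_option autoImplicit false
set_option maxRecDepth 100000

namespace Cfsg.Agent.L0.ONG

open Cfsg.Spor

/-- letter of a generator -/
def idx : ON.Gen → ℕ
  | .g => 0
  | .a => 1
  | .b => 2
  | .c => 3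
  | .d => 4
  | .e => 5
  | .f => 6

/-- letter of the inverse of a generator -/
def iv : ON.Gen → ℕ
  | .g => 7
  | .a => 1
  | .b => 2
  | .c => 3
  | .d => 4
  | .e => 5
  | .f => 6

/-- all generators -/
def all : List ON.Gen := [.g, .a, .b, .c, .d, .e, .f]

/-- the letters -/
def x (i : ℕ) : ON := ([PresentedGroup.of .g, PresentedGroup.of .a, PresentedGroup.of .b, PresentedGroup.of .c, PresentedGroup.of .d, PresentedGroup.of .e, PresentedGroup.of .f, (PresentedGroup.of .g)⁻¹] : List ON).getD i 1

theorem hall : ∀ a, a ∈ all := by intro a; cases a <;> decide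

theorem hx : ∀ a, x (idx a) = PresentedGroup.of a := by intro a; cases a <;> rfl

theorem hiv : ∀ a, x (iv a) = (PresentedGroup.of a)⁻¹ := by
  intro a; cases a <;> first | exact cox_inv (by decide) | rfl

/-- the defining relators -/
def R0 : List (List ℕ) := coxR idx iv ON.edges ON.extra all

theorem rel0 : ∀ r ∈ R0, ev x r = 1 := cox_rel hx hiv

theorem gen_top : genL x [0, 1, 2, 3, 4, 5, 6, 7] = ⊤ := cox_genL hx (by intro a; cases a <;> decide)

theorem card_le : Finite ON ∧ Nat.card ON ≤ 460815505920 := by
  have := (ONTc1.bound (rel_sub (R := R0) rel0 (by decide +kernel))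
    (ONTc2.bound (rel_sub (R := R0) rel0 (by decide +kernel))
    (ONTc3.bound (rel_sub (R := R0) rel0 (by decide +kernel))
    (ONTc4.bound (rel_sub (R := R0) rel0 (by decide +kernel))
    (ONTc5.bound (rel_sub (R := R0) rel0 (by decide +kernel))
    (ONTc6.bound (rel_sub (R := R0) rel0 (by decide +kernel))
    (cardLe_nil x))))))).top gen_top
  simpa using this

/-- the relators, one of each pair -/
def R : List (List ℕ) := ONCov3.RL.map Prod.fst

theorem isPres : IsPres x 8 R :=
  isPres_cox hall hx hiv (by decide +kernel) (by decide +kernel) (by decide +kernel)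
    (by decide +kernel) (by decide +kernel)

/-- the table of the action on `122760` points -/
noncomputable def T : ℕ → ℕ → ℕ := tgt ONCov3.E (nat_lit 2)

theorem exists_act : ∃ A : RAct ON 122760, A.Tab x 8 T :=
  isPres.exists_ract (by decide +kernel) (by decide +kernel) le_rfl
    fun c hc => relChk_of_L (ONCov3.all c hc)

theorem lower : LowerMult ON (Multiplicative (ZMod 3)) :=
  haveI := card_le.1
  lower_one isPres (ONCov3.rep rfl) [(8, 0), (1, 3), (2, 12), (2, 13), (-4, 23), (-2, 28)]
    (by decide +kernel) (by decide +kernel)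

end Cfsg.Agent.L0.ONG
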