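import Cfsg.Agent.L0.CosetChain
import Cfsg.Agent.L0.ON.Tc1D0
import Cfsg.Agent.L0.ON.Tc1D1
import Cfsg.Agent.L0.ON.Tc1D2
import Cfsg.Agent.L0.ON.Tc1D3
import Cfsg.Agent.L0.ON.Tc1D4
import Cfsg.Agent.L0.ON.Tc1D5
import Cfsg.Agent.L0.ON.Tc1D6
import Cfsg.Agent.L0.ON.Tc1D7

/-! Generated coset table certificate. -/

set_option autoImplicit false
set_option maxRecDepth 100000

namespace Cfsg.Agent.L0.ONTc1

noncomputable def tree : BT := (.node (.node (.node (.node (.node (.node (.node (.node t0 t128) (.node t64 t192)) (.node (.node t32 t160) (.node t96 t224))) (.node (.node (.node t16 t144) (.node t80 t208)) (.node (.node t48 t176) (.node t112 t240)))) (.node (.node (.node (.node t8 t136) (.node t72 t200)) (.node (.node t40 t168) (.node t104 t232))) (.node (.node (.node t24 t152) (.node t88 t216)) (.node (.node t56 t184) (.node t120 t248))))) (.node (.node (.node (.node (.node t4 t132) (.node t68 t196)) (.node (.node t36 t164) (.node t100 t228))) (.node (.node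 (.node t20 t148) (.node t84 t212)) (.node (.node t52 t180) (.node t116 t244)))) (.node (.node (.node (.node t12 t140) (.node t76 t204)) (.node (.node t44 t172) (.node t108 t236))) (.node (.node (.node t28 t156) (.node t92 t220)) (.node (.node t60 t188) (.node t124 t252)))))) (.node (.node (.node (.node (.node (.node t2 t130) (.node t66 t194)) (.node (.node t34 t162) (.node t98 t226))) (.node (.node (.node t18 t146) (.node t82 t210)) (.node (.node t50 t178) (.node t114 t242)))) (.node (.node (.node (.node t10 t138) (.node t74 t202)) (.node (.node t42 t170) (.node t106 t234))) (.node (.node (.node t26 t154) (.node t90 t218)) (.node (.node t58 t186) (.node t122 t250))))) (.node (.node (.node (.node (.node t6 t134) (.node t70 t198)) (.node (.node t38 t166) (.node t102 t230))) (.node (.node (.node t22 t150) (.node t86 t214)) (.node (.node t54 t182) (.node t118 t246)))) (.node (.node (.node (.node t14 t142) (.node t78 t206)) (.node (.node t46 t174) (.node t110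 t238))) (.node (.node (.node t30 t158) (.node t94 t222)) (.node (.node t62 t190) (.node t126 t254))))))) (.node (.node (.node (.node (.node (.node (.node t1 t129) (.node t65 t193)) (.node (.node t33 t161) (.node t97 t225))) (.node (.node (.node t17 t145) (.node t81 t209)) (.node (.node t49 t177) (.node t113 t241)))) (.node (.node (.node (.node t9 t137) (.node t73 t201)) (.node (.node t41 t169) (.node t105 t233))) (.node (.node (.node t25 t153) (.node t89 t217)) (.node (.node t57 t185) (.node t121 t249))))) (.node (.node (.node (.node (.node t5 t133) (.node t69 t197)) (.node (.node t37 t165) (.node t101 t229))) (.node (.node (.node t21 t149) (.node t85 t213)) (.node (.node t53 t181) (.node t117 t245)))) (.node (.node (.node (.node t13 t141) (.node t77 t205)) (.node (.node t45 t173) (.node t109 t237))) (.node (.node (.node t29 t157) (.node t93 t221)) (.node (.node t61 t189) (.node t125 t253)))))) (.node (.node (.node (.node (.node (.node t3 t131) (.node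 t67 t195)) (.node (.node t35 t163) (.node t99 t227))) (.node (.node (.node t19 t147) (.node t83 t211)) (.node (.node t51 t179) (.node t115 t243)))) (.node (.node (.node (.node t11 t139) (.node t75 t203)) (.node (.node t43 t171) (.node t107 t235))) (.node (.node (.node t27 t155) (.node t91 t219)) (.node (.node t59 t187) (.node t123 t251))))) (.node (.node (.node (.node (.node t7 t135) (.node t71 t199)) (.node (.node t39 t167) (.node t103 t231))) (.node (.node (.node t23 t151) (.node t87 t215)) (.node (.node t55 t183) (.node t119 t247)))) (.node (.node (.node (.node t15 t143) (.node t79 t207)) (.node (.node t47 t175) (.node t111 t239))) (.node (.node (.node t31 t159) (.node t95 t223)) (.node (.node t63 t191) (.node t127 t255))))))))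

noncomputable def row : ℕ → ℕ := rowOf tree (nat_lit 4) (nat_lit 15) (nat_lit 374) (nat_lit 0x3fffffffffffffffffffffffffffffffffffffffffffffffffffffffffffffffffffffffffffffffffffffffffffff)

noncomputable def cols : List Col := [⟨nat_lit 32, nat_lit 0, [([nat_lit 284], nat_lit 0), ([nat_lit 176, nat_lit 32, nat_lit 140, nat_lit 284, nat_lit 176, nat_lit 284, nat_lit 176, nat_lit 140, nat_lit 176], nat_lit 0), ([nat_lit 140, nat_lit 32, nat_lit 176, nat_lit 284, nat_lit 140, nat_lit 284, nat_lit 140, nat_lit 176, nat_lit 140], nat_lit 0), ([nat_lit 140, nat_lit 104, nat_lit 32, nat_lit 104, nat_lit 140, nat_lit 32, nat_lit 140, nat_lit 32, nat_lit 104, nat_lit 140], nat_lit 0), ([nat_lit 104, nat_lit 140, nat_lit 32, nat_lit 140, nat_lit 32, nat_lit 104, nat_lit 140, nat_lit 32, nat_lit 140, nat_lit 104], nat_lit 0), ([nat_lit 140, nat_lit 284, nat_lit 176, nat_lit 284, nat_lit 176, nat_lit 140, nat_lit 176, nat_lit 32, nat_lit 176], nat_lit 0), ([nat_lit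 212, nat_lit 176, nat_lit 32, nat_lit 176, nat_lit 32, nat_lit 212, nat_lit 176, nat_lit 32, nat_lit 176, nat_lit 212], nat_lit 0), ([nat_lit 176, nat_lit 212, nat_lit 32, nat_lit 212, nat_lit 176, nat_lit 32, nat_lit 176, nat_lit 32, nat_lit 212, nat_lit 176], nat_lit 0), ([nat_lit 104, nat_lit 140, nat_lit 32, nat_lit 140, nat_lit 104, nat_lit 32, nat_lit 104, nat_lit 140, nat_lit 32, nat_lit 140], nat_lit 0), ([nat_lit 212, nat_lit 176, nat_lit 32, nat_lit 176, nat_lit 212, nat_lit 32, nat_lit 212, nat_lit 176, nat_lit 32, nat_lit 176], nat_lit 0), ([nat_lit 176, nat_lit 32, nat_lit 212, nat_lit 176, nat_lit 32, nat_lit 176, nat_lit 212, nat_lit 32, nat_lit 212, nat_lit 176], nat_lit 0), ([nat_lit 140, nat_lit 32, nat_lit 104, nat_lit 140, nat_lit 32, nat_lit 140, nat_lit 104, nat_lit 32, nat_lit 104, nat_lit 140], nat_lit 0), ([nat_lit 176, nat_lit 284, nat_lit 140, nat_lit 284, nat_lit 140, nat_lit 176, nat_lit 140, nat_lit 32, nat_lit 140], nat_lit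 0), ([nat_lit 104, nat_lit 140, nat_lit 176, nat_lit 32, nat_lit 104, nat_lit 140, nat_lit 176, nat_lit 32, nat_lit 104, nat_lit 140, nat_lit 176, nat_lit 32, nat_lit 104, nat_lit 140, nat_lit 176, nat_lit 32, nat_lit 104, nat_lit 140, nat_lit 176], nat_lit 0)]⟩,
  ⟨nat_lit 68, nat_lit 1, [([nat_lit 68], nat_lit 0), ([nat_lit 176, nat_lit 68, nat_lit 176], nat_lit 0), ([nat_lit 212, nat_lit 68, nat_lit 212], nat_lit 0), ([nat_lit 140, nat_lit 68, nat_lit 140], nat_lit 0), ([nat_lit 248, nat_lit 68, nat_lit 248], nat_lit 0), ([nat_lit 248, nat_lit 284, nat_lit 284], nat_lit 0), ([nat_lit 104, nat_lit 68, nat_lit 104, nat_lit 68, nat_lit 104], nat_lit 0), ([nat_lit 248, nat_lit 176, nat_lit 140, nat_lit 176, nat_lit 140, nat_lit 176, nat_lit 140, nat_lit 176, nat_lit 140], nat_lit 0)]⟩,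
  ⟨nat_lit 104, nat_lit 1, [([nat_lit 104], nat_lit 0), ([nat_lit 176, nat_lit 104, nat_lit 176], nat_lit 0), ([nat_lit 212, nat_lit 104, nat_lit 212], nat_lit 0), ([nat_lit 248, nat_lit 104, nat_lit 248], nat_lit 0), ([nat_lit 68, nat_lit 104, nat_lit 68, nat_lit 104, nat_lit 68], nat_lit 0), ([nat_lit 140, nat_lit 104, nat_lit 140, nat_lit 104, nat_lit 140], nat_lit 0), ([nat_lit 32, nat_lit 104, nat_lit 140, nat_lit 32, nat_lit 140, nat_lit 32, nat_lit 104, nat_lit 140, nat_lit 32, nat_lit 140], nat_lit 0), ([nat_lit 140, nat_lit 32, nat_lit 140, nat_lit 32, nat_lit 104, nat_lit 140, nat_lit 32, nat_lit 140, nat_lit 104, nat_lit 32], nat_lit 0), ([nat_lit 140, nat_lit 32, nat_lit 140, nat_lit 104, nat_lit 32, nat_lit 104, nat_lit 140, nat_lit 32, nat_lit 140, nat_lit 32], nat_lit 0), ([nat_lit 140, nat_lit 176, nat_lit 32, nat_lit 104, nat_lit 140, nat_lit 176, nat_lit 32, nat_lit 104, nat_lit 140, nat_lit 176, nat_lit 32, nat_lit 104, nat_lit 140,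 nat_lit 176, nat_lit 32, nat_lit 104, nat_lit 140, nat_lit 176, nat_lit 32], nat_lit 0)]⟩,
  ⟨nat_lit 140, nat_lit 1, [([nat_lit 140], nat_lit 0), ([nat_lit 68, nat_lit 140, nat_lit 68], nat_lit 0), ([nat_lit 212, nat_lit 140, nat_lit 212], nat_lit 0), ([nat_lit 248, nat_lit 140, nat_lit 248], nat_lit 0), ([nat_lit 104, nat_lit 140, nat_lit 104, nat_lit 140, nat_lit 104], nat_lit 0), ([nat_lit 104, nat_lit 32, nat_lit 104, nat_lit 140, nat_lit 32, nat_lit 140, nat_lit 32, nat_lit 104, nat_lit 140, nat_lit 32], nat_lit 0), ([nat_lit 32, nat_lit 176, nat_lit 284, nat_lit 140, nat_lit 284, nat_lit 140, nat_lit 176, nat_lit 140, nat_lit 32], nat_lit 0), ([nat_lit 176, nat_lit 140, nat_lit 176, nat_lit 140, nat_lit 176, nat_lit 140, nat_lit 68, nat_lit 248, nat_lit 176], nat_lit 0), ([nat_lit 32, nat_lit 104, nat_lit 140, nat_lit 32, nat_lit 140, nat_lit 104, nat_lit 32, nat_lit 104, nat_lit 140, nat_lit 32], nat_lit 0), ([nat_lit 284, nat_lit 176, nat_lit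 284, nat_lit 176, nat_lit 140, nat_lit 176, nat_lit 32, nat_lit 176, nat_lit 32], nat_lit 0), ([nat_lit 176, nat_lit 140, nat_lit 32, nat_lit 140, nat_lit 32, nat_lit 176, nat_lit 284, nat_lit 140, nat_lit 284], nat_lit 0), ([nat_lit 32, nat_lit 140, nat_lit 104, nat_lit 32, nat_lit 104, nat_lit 140, nat_lit 32, nat_lit 140, nat_lit 32, nat_lit 104], nat_lit 0), ([nat_lit 32, nat_lit 140, nat_lit 32, nat_lit 104, nat_lit 140, nat_lit 32, nat_lit 140, nat_lit 104, nat_lit 32, nat_lit 104], nat_lit 0), ([nat_lit 284, nat_lit 140, nat_lit 176, nat_lit 140, nat_lit 32, nat_lit 140, nat_lit 32, nat_lit 176, nat_lit 284], nat_lit 0), ([nat_lit 176, nat_lit 140, nat_lit 176, nat_lit 140, nat_lit 68, nat_lit 248, nat_lit 176, nat_lit 140, nat_lit 176], nat_lit 0), ([nat_lit 32, nat_lit 140, nat_lit 32, nat_lit 176, nat_lit 284, nat_lit 140, nat_lit 284, nat_lit 140, nat_lit 176], nat_lit 0), ([nat_lit 176, nat_lit 32, nat_lit 176, nat_lit 32, nat_lit 140, nat_lit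 284, nat_lit 176, nat_lit 284, nat_lit 176], nat_lit 0), ([nat_lit 176, nat_lit 140, nat_lit 68, nat_lit 248, nat_lit 176, nat_lit 140, nat_lit 176, nat_lit 140, nat_lit 176], nat_lit 0), ([nat_lit 68, nat_lit 248, nat_lit 176, nat_lit 140, nat_lit 176, nat_lit 140, nat_lit 176, nat_lit 140, nat_lit 176], nat_lit 0), ([nat_lit 176, nat_lit 32, nat_lit 104, nat_lit 140, nat_lit 176, nat_lit 32, nat_lit 104, nat_lit 140, nat_lit 176, nat_lit 32, nat_lit 104, nat_lit 140, nat_lit 176, nat_lit 32, nat_lit 104, nat_lit 140, nat_lit 176, nat_lit 32, nat_lit 104], nat_lit 0)]⟩,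
  ⟨nat_lit 176, nat_lit 1, [([nat_lit 176], nat_lit 0), ([nat_lit 68, nat_lit 176, nat_lit 68], nat_lit 0), ([nat_lit 104, nat_lit 176, nat_lit 104], nat_lit 0), ([nat_lit 248, nat_lit 176, nat_lit 248], nat_lit 0), ([nat_lit 32, nat_lit 140, nat_lit 284, nat_lit 176, nat_lit 284, nat_lit 176, nat_lit 140, nat_lit 176, nat_lit 32], nat_lit 0), ([nat_lit 212, nat_lit 176, nat_lit 212, nat_lit 176, nat_lit 212], nat_lit 0), ([nat_lit 212, nat_lit 32, nat_lit 212, nat_lit 176, nat_lit 32, nat_lit 176, nat_lit 32, nat_lit 212, nat_lit 176, nat_lit 32], nat_lit 0), ([nat_lit 140, nat_lit 176, nat_lit 32, nat_lit 176, nat_lit 32, nat_lit 140, nat_lit 284, nat_lit 176, nat_lit 284], nat_lit 0), ([nat_lit 140, nat_lit 176, nat_lit 140, nat_lit 176, nat_lit 140, nat_lit 68, nat_lit 248, nat_lit 176, nat_lit 140], nat_lit 0), ([nat_lit 32, nat_lit 212, nat_lit 176, nat_lit 32, nat_lit 176, nat_lit 212, nat_lit 32, nat_lit 212, nat_lit 176, nat_lit 32], nat_lit 0),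 ([nat_lit 284, nat_lit 176, nat_lit 140, nat_lit 176, nat_lit 32, nat_lit 176, nat_lit 32, nat_lit 140, nat_lit 284], nat_lit 0), ([nat_lit 32, nat_lit 176, nat_lit 212, nat_lit 32, nat_lit 212, nat_lit 176, nat_lit 32, nat_lit 176, nat_lit 32, nat_lit 212], nat_lit 0), ([nat_lit 32, nat_lit 176, nat_lit 32, nat_lit 212, nat_lit 176, nat_lit 32, nat_lit 176, nat_lit 212, nat_lit 32, nat_lit 212], nat_lit 0), ([nat_lit 284, nat_lit 140, nat_lit 284, nat_lit 140, nat_lit 176, nat_lit 140, nat_lit 32, nat_lit 140, nat_lit 32], nat_lit 0), ([nat_lit 32, nat_lit 176, nat_lit 32, nat_lit 140, nat_lit 284, nat_lit 176, nat_lit 284, nat_lit 176, nat_lit 140], nat_lit 0), ([nat_lit 32, nat_lit 104, nat_lit 140, nat_lit 176, nat_lit 32, nat_lit 104, nat_lit 140, nat_lit 176, nat_lit 32, nat_lit 104, nat_lit 140, nat_lit 176, nat_lit 32, nat_lit 104, nat_lit 140, nat_lit 176, nat_lit 32, nat_lit 104, nat_lit 140], nat_lit 0), ([nat_lit 140, nat_lit 176, nat_lit 140,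 nat_lit 176, nat_lit 140, nat_lit 176, nat_lit 140, nat_lit 68, nat_lit 248], nat_lit 0), ([nat_lit 140, nat_lit 32, nat_lit 140, nat_lit 32, nat_lit 176, nat_lit 284, nat_lit 140, nat_lit 284, nat_lit 140], nat_lit 0), ([nat_lit 140, nat_lit 176, nat_lit 140, nat_lit 68, nat_lit 248, nat_lit 176, nat_lit 140, nat_lit 176, nat_lit 140], nat_lit 0), ([nat_lit 140, nat_lit 68, nat_lit 248, nat_lit 176, nat_lit 140, nat_lit 176, nat_lit 140, nat_lit 176, nat_lit 140], nat_lit 0)]⟩,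
  ⟨nat_lit 212, nat_lit 1, [([nat_lit 212], nat_lit 0), ([nat_lit 68, nat_lit 212, nat_lit 68], nat_lit 0), ([nat_lit 104, nat_lit 212, nat_lit 104], nat_lit 0), ([nat_lit 140, nat_lit 212, nat_lit 140], nat_lit 0), ([nat_lit 176, nat_lit 212, nat_lit 176, nat_lit 212, nat_lit 176], nat_lit 0), ([nat_lit 32, nat_lit 212, nat_lit 176, nat_lit 32, nat_lit 176, nat_lit 32, nat_lit 212, nat_lit 176, nat_lit 32, nat_lit 176], nat_lit 0), ([nat_lit 248, nat_lit 212, nat_lit 248, nat_lit 212, nat_lit 248], nat_lit 0), ([nat_lit 176, nat_lit 32, nat_lit 176, nat_lit 32, nat_lit 212, nat_lit 176, nat_lit 32, nat_lit 176, nat_lit 212, nat_lit 32], nat_lit 0), ([nat_lit 176, nat_lit 32, nat_lit 176, nat_lit 212, nat_lit 32, nat_lit 212, nat_lit 176, nat_lit 32, nat_lit 176, nat_lit 32], nat_lit 0)]⟩,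
  ⟨nat_lit 248, nat_lit 1, [([nat_lit 248], nat_lit 0), ([nat_lit 68, nat_lit 248, nat_lit 68], nat_lit 0), ([nat_lit 104, nat_lit 248, nat_lit 104], nat_lit 0), ([nat_lit 140, nat_lit 248, nat_lit 140], nat_lit 0), ([nat_lit 176, nat_lit 248, nat_lit 176], nat_lit 0), ([nat_lit 284, nat_lit 284, nat_lit 68], nat_lit 0), ([nat_lit 212, nat_lit 248, nat_lit 212, nat_lit 248, nat_lit 212], nat_lit 0), ([nat_lit 176, nat_lit 140, nat_lit 176, nat_lit 140, nat_lit 176, nat_lit 140, nat_lit 176, nat_lit 140, nat_lit 68], nat_lit 0)]⟩,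
  ⟨nat_lit 284, nat_lit 0, [([nat_lit 32], nat_lit 0), ([nat_lit 284, nat_lit 68, nat_lit 248], nat_lit 0), ([nat_lit 68, nat_lit 248, nat_lit 284], nat_lit 0), ([nat_lit 176, nat_lit 140, nat_lit 176, nat_lit 32, nat_lit 176, nat_lit 32, nat_lit 140, nat_lit 284, nat_lit 176], nat_lit 0), ([nat_lit 140, nat_lit 176, nat_lit 140, nat_lit 32, nat_lit 140, nat_lit 32, nat_lit 176, nat_lit 284, nat_lit 140], nat_lit 0), ([nat_lit 176, nat_lit 284, nat_lit 176, nat_lit 140, nat_lit 176, nat_lit 32, nat_lit 176, nat_lit 32, nat_lit 140], nat_lit 0), ([nat_lit 140, nat_lit 284, nat_lit 140, nat_lit 176, nat_lit 140, nat_lit 32, nat_lit 140, nat_lit 32, nat_lit 176], nat_lit 0)]⟩]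

noncomputable def erots : List (List ℕ × ℕ) := [([nat_lit 212, nat_lit 212], nat_lit 0),
  ([nat_lit 176, nat_lit 176], nat_lit 0),
  ([nat_lit 140, nat_lit 140], nat_lit 0),
  ([nat_lit 284, nat_lit 32], nat_lit 0),
  ([nat_lit 104, nat_lit 104], nat_lit 0),
  ([nat_lit 32, nat_lit 284], nat_lit 0),
  ([nat_lit 248, nat_lit 248], nat_lit 0),
  ([nat_lit 68, nat_lit 68], nat_lit 0),
  ([nat_lit 284, nat_lit 284, nat_lit 68, nat_lit 248], nat_lit 0),
  ([nat_lit 68, nat_lit 248, nat_lit 284, nat_lit 284], nat_lit 0),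
  ([nat_lit 212, nat_lit 176, nat_lit 32, nat_lit 176, nat_lit 32, nat_lit 212, nat_lit 176, nat_lit 32, nat_lit 176, nat_lit 212, nat_lit 32], nat_lit 0),
  ([nat_lit 32, nat_lit 212, nat_lit 176, nat_lit 32, nat_lit 176, nat_lit 32, nat_lit 212, nat_lit 176, nat_lit 32, nat_lit 176, nat_lit 212], nat_lit 0),
  ([nat_lit 104, nat_lit 140, nat_lit 32, nat_lit 140, nat_lit 32, nat_lit 104, nat_lit 140, nat_lit 32, nat_lit 140, nat_lit 104, nat_lit 32], nat_lit 0),
  ([nat_lit 32, nat_lit 104, nat_lit 140, nat_lit 32, nat_lit 140, nat_lit 32, nat_lit 104, nat_lit 140, nat_lit 32, nat_lit 140, nat_lit 104], nat_lit 0),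
  ([nat_lit 32, nat_lit 104, nat_lit 140, nat_lit 32, nat_lit 140, nat_lit 104, nat_lit 32, nat_lit 104, nat_lit 140, nat_lit 32, nat_lit 140], nat_lit 0),
  ([nat_lit 284, nat_lit 68, nat_lit 248, nat_lit 284], nat_lit 0),
  ([nat_lit 32, nat_lit 212, nat_lit 176, nat_lit 32, nat_lit 176, nat_lit 212, nat_lit 32, nat_lit 212, nat_lit 176, nat_lit 32, nat_lit 176], nat_lit 0),
  ([nat_lit 140, nat_lit 104, nat_lit 32, nat_lit 104, nat_lit 140, nat_lit 32, nat_lit 140, nat_lit 32, nat_lit 104, nat_lit 140, nat_lit 32], nat_lit 0),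
  ([nat_lit 176, nat_lit 68, nat_lit 176, nat_lit 68], nat_lit 0),
  ([nat_lit 32, nat_lit 140, nat_lit 104, nat_lit 32, nat_lit 104, nat_lit 140, nat_lit 32, nat_lit 140, nat_lit 32, nat_lit 104, nat_lit 140], nat_lit 0),
  ([nat_lit 248, nat_lit 140, nat_lit 248, nat_lit 140], nat_lit 0),
  ([nat_lit 104, nat_lit 140, nat_lit 32, nat_lit 140, nat_lit 104, nat_lit 32, nat_lit 104, nat_lit 140, nat_lit 32, nat_lit 140, nat_lit 32], nat_lit 0),
  ([nat_lit 176, nat_lit 212, nat_lit 32, nat_lit 212, nat_lit 176, nat_lit 32, nat_lit 176, nat_lit 32, nat_lit 212, nat_lit 176, nat_lit 32], nat_lit 0),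
  ([nat_lit 32, nat_lit 176, nat_lit 212, nat_lit 32, nat_lit 212, nat_lit 176, nat_lit 32, nat_lit 176, nat_lit 32, nat_lit 212, nat_lit 176], nat_lit 0),
  ([nat_lit 140, nat_lit 32, nat_lit 104, nat_lit 140, nat_lit 32, nat_lit 140, nat_lit 104, nat_lit 32, nat_lit 104, nat_lit 140, nat_lit 32], nat_lit 0),
  ([nat_lit 212, nat_lit 176, nat_lit 32, nat_lit 176, nat_lit 212, nat_lit 32, nat_lit 212, nat_lit 176, nat_lit 32, nat_lit 176, nat_lit 32], nat_lit 0),
  ([nat_lit 284, nat_lit 140, nat_lit 176, nat_lit 140, nat_lit 32, nat_lit 140, nat_lit 32, nat_lit 176, nat_lit 284, nat_lit 140], nat_lit 0),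
  ([nat_lit 212, nat_lit 68, nat_lit 212, nat_lit 68], nat_lit 0),
  ([nat_lit 176, nat_lit 32, nat_lit 212, nat_lit 176, nat_lit 32, nat_lit 176, nat_lit 212, nat_lit 32, nat_lit 212, nat_lit 176, nat_lit 32], nat_lit 0),
  ([nat_lit 248, nat_lit 176, nat_lit 248, nat_lit 176], nat_lit 0),
  ([nat_lit 104, nat_lit 248, nat_lit 104, nat_lit 248], nat_lit 0),
  ([nat_lit 176, nat_lit 32, nat_lit 176, nat_lit 32, nat_lit 212, nat_lit 176, nat_lit 32, nat_lit 176, nat_lit 212, nat_lit 32, nat_lit 212], nat_lit 0),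
  ([nat_lit 68, nat_lit 176, nat_lit 68, nat_lit 176], nat_lit 0),
  ([nat_lit 140, nat_lit 32, nat_lit 176, nat_lit 284, nat_lit 140, nat_lit 284, nat_lit 140, nat_lit 176, nat_lit 140, nat_lit 32], nat_lit 0),
  ([nat_lit 140, nat_lit 248, nat_lit 140, nat_lit 248], nat_lit 0),
  ([nat_lit 248, nat_lit 104, nat_lit 248, nat_lit 104], nat_lit 0),
  ([nat_lit 32, nat_lit 140, nat_lit 32, nat_lit 104, nat_lit 140, nat_lit 32, nat_lit 140, nat_lit 104, nat_lit 32, nat_lit 104, nat_lit 140], nat_lit 0),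
  ([nat_lit 68, nat_lit 212, nat_lit 68, nat_lit 212], nat_lit 0),
  ([nat_lit 140, nat_lit 32, nat_lit 140, nat_lit 32, nat_lit 104, nat_lit 140, nat_lit 32, nat_lit 140, nat_lit 104, nat_lit 32, nat_lit 104], nat_lit 0),
  ([nat_lit 104, nat_lit 176, nat_lit 104, nat_lit 176], nat_lit 0),
  ([nat_lit 104, nat_lit 68, nat_lit 104, nat_lit 68, nat_lit 104, nat_lit 68], nat_lit 0),
  ([nat_lit 212, nat_lit 104, nat_lit 212, nat_lit 104], nat_lit 0),
  ([nat_lit 248, nat_lit 212, nat_lit 248, nat_lit 212, nat_lit 248, nat_lit 212], nat_lit 0),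
  ([nat_lit 284, nat_lit 140, nat_lit 284, nat_lit 140, nat_lit 176, nat_lit 140, nat_lit 32, nat_lit 140, nat_lit 32, nat_lit 176], nat_lit 0),
  ([nat_lit 284, nat_lit 176, nat_lit 140, nat_lit 176, nat_lit 32, nat_lit 176, nat_lit 32, nat_lit 140, nat_lit 284, nat_lit 176], nat_lit 0),
  ([nat_lit 32, nat_lit 176, nat_lit 32, nat_lit 212, nat_lit 176, nat_lit 32, nat_lit 176, nat_lit 212, nat_lit 32, nat_lit 212, nat_lit 176], nat_lit 0),
  ([nat_lit 68, nat_lit 140, nat_lit 68, nat_lit 140], nat_lit 0),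
  ([nat_lit 140, nat_lit 68, nat_lit 140, nat_lit 68], nat_lit 0),
  ([nat_lit 176, nat_lit 104, nat_lit 176, nat_lit 104], nat_lit 0),
  ([nat_lit 104, nat_lit 212, nat_lit 104, nat_lit 212], nat_lit 0),
  ([nat_lit 284, nat_lit 176, nat_lit 284, nat_lit 176, nat_lit 140, nat_lit 176, nat_lit 32, nat_lit 176, nat_lit 32, nat_lit 140], nat_lit 0),
  ([nat_lit 212, nat_lit 140, nat_lit 212, nat_lit 140], nat_lit 0),
  ([nat_lit 140, nat_lit 176, nat_lit 140, nat_lit 32, nat_lit 140, nat_lit 32, nat_lit 176, nat_lit 284, nat_lit 140, nat_lit 284], nat_lit 0),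
  ([nat_lit 212, nat_lit 32, nat_lit 212, nat_lit 176, nat_lit 32, nat_lit 176, nat_lit 32, nat_lit 212, nat_lit 176, nat_lit 32, nat_lit 176], nat_lit 0),
  ([nat_lit 176, nat_lit 248, nat_lit 176, nat_lit 248], nat_lit 0),
  ([nat_lit 176, nat_lit 32, nat_lit 140, nat_lit 284, nat_lit 176, nat_lit 284, nat_lit 176, nat_lit 140, nat_lit 176, nat_lit 32], nat_lit 0),
  ([nat_lit 176, nat_lit 32, nat_lit 176, nat_lit 212, nat_lit 32, nat_lit 212, nat_lit 176, nat_lit 32, nat_lit 176, nat_lit 32, nat_lit 212], nat_lit 0),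
  ([nat_lit 140, nat_lit 212, nat_lit 140, nat_lit 212], nat_lit 0),
  ([nat_lit 104, nat_lit 32, nat_lit 104, nat_lit 140, nat_lit 32, nat_lit 140, nat_lit 32, nat_lit 104, nat_lit 140, nat_lit 32, nat_lit 140], nat_lit 0),
  ([nat_lit 104, nat_lit 140, nat_lit 176, nat_lit 32, nat_lit 104, nat_lit 140, nat_lit 176, nat_lit 32, nat_lit 104, nat_lit 140, nat_lit 176, nat_lit 32, nat_lit 104, nat_lit 140, nat_lit 176, nat_lit 32, nat_lit 104, nat_lit 140, nat_lit 176, nat_lit 32], nat_lit 0),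
  ([nat_lit 140, nat_lit 32, nat_lit 140, nat_lit 104, nat_lit 32, nat_lit 104, nat_lit 140, nat_lit 32, nat_lit 140, nat_lit 32, nat_lit 104], nat_lit 0),
  ([nat_lit 32, nat_lit 140, nat_lit 32, nat_lit 176, nat_lit 284, nat_lit 140, nat_lit 284, nat_lit 140, nat_lit 176, nat_lit 140], nat_lit 0),
  ([nat_lit 212, nat_lit 248, nat_lit 212, nat_lit 248, nat_lit 212, nat_lit 248], nat_lit 0),
  ([nat_lit 32, nat_lit 104, nat_lit 140, nat_lit 176, nat_lit 32, nat_lit 104, nat_lit 140, nat_lit 176, nat_lit 32, nat_lit 104, nat_lit 140, nat_lit 176, nat_lit 32, nat_lit 104, nat_lit 140, nat_lit 176, nat_lit 32, nat_lit 104, nat_lit 140, nat_lit 176], nat_lit 0),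
  ([nat_lit 212, nat_lit 176, nat_lit 212, nat_lit 176, nat_lit 212, nat_lit 176], nat_lit 0),
  ([nat_lit 176, nat_lit 212, nat_lit 176, nat_lit 212, nat_lit 176, nat_lit 212], nat_lit 0),
  ([nat_lit 140, nat_lit 104, nat_lit 140, nat_lit 104, nat_lit 140, nat_lit 104], nat_lit 0),
  ([nat_lit 176, nat_lit 140, nat_lit 176, nat_lit 32, nat_lit 176, nat_lit 32, nat_lit 140, nat_lit 284, nat_lit 176, nat_lit 284], nat_lit 0),
  ([nat_lit 68, nat_lit 104, nat_lit 68, nat_lit 104, nat_lit 68, nat_lit 104], nat_lit 0),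
  ([nat_lit 140, nat_lit 176, nat_lit 32, nat_lit 104, nat_lit 140, nat_lit 176, nat_lit 32, nat_lit 104, nat_lit 140, nat_lit 176, nat_lit 32, nat_lit 104, nat_lit 140, nat_lit 176, nat_lit 32, nat_lit 104, nat_lit 140, nat_lit 176, nat_lit 32, nat_lit 104], nat_lit 0),
  ([nat_lit 140, nat_lit 284, nat_lit 140, nat_lit 176, nat_lit 140, nat_lit 32, nat_lit 140, nat_lit 32, nat_lit 176, nat_lit 284], nat_lit 0),
  ([nat_lit 176, nat_lit 284, nat_lit 140, nat_lit 284, nat_lit 140, nat_lit 176, nat_lit 140, nat_lit 32, nat_lit 140, nat_lit 32], nat_lit 0),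
  ([nat_lit 176, nat_lit 284, nat_lit 176, nat_lit 140, nat_lit 176, nat_lit 32, nat_lit 176, nat_lit 32, nat_lit 140, nat_lit 284], nat_lit 0),
  ([nat_lit 104, nat_lit 140, nat_lit 104, nat_lit 140, nat_lit 104, nat_lit 140], nat_lit 0),
  ([nat_lit 176, nat_lit 32, nat_lit 104, nat_lit 140, nat_lit 176, nat_lit 32, nat_lit 104, nat_lit 140, nat_lit 176, nat_lit 32, nat_lit 104, nat_lit 140, nat_lit 176, nat_lit 32, nat_lit 104, nat_lit 140, nat_lit 176, nat_lit 32, nat_lit 104, nat_lit 140], nat_lit 0),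
  ([nat_lit 140, nat_lit 284, nat_lit 176, nat_lit 284, nat_lit 176, nat_lit 140, nat_lit 176, nat_lit 32, nat_lit 176, nat_lit 32], nat_lit 0),
  ([nat_lit 32, nat_lit 176, nat_lit 32, nat_lit 140, nat_lit 284, nat_lit 176, nat_lit 284, nat_lit 176, nat_lit 140, nat_lit 176], nat_lit 0),
  ([nat_lit 32, nat_lit 176, nat_lit 284, nat_lit 140, nat_lit 284, nat_lit 140, nat_lit 176, nat_lit 140, nat_lit 32, nat_lit 140], nat_lit 0),
  ([nat_lit 32, nat_lit 140, nat_lit 284, nat_lit 176, nat_lit 284, nat_lit 176, nat_lit 140, nat_lit 176, nat_lit 32, nat_lit 176], nat_lit 0),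
  ([nat_lit 176, nat_lit 140, nat_lit 32, nat_lit 140, nat_lit 32, nat_lit 176, nat_lit 284, nat_lit 140, nat_lit 284, nat_lit 140], nat_lit 0),
  ([nat_lit 140, nat_lit 176, nat_lit 32, nat_lit 176, nat_lit 32, nat_lit 140, nat_lit 284, nat_lit 176, nat_lit 284, nat_lit 176], nat_lit 0),
  ([nat_lit 176, nat_lit 32, nat_lit 176, nat_lit 32, nat_lit 140, nat_lit 284, nat_lit 176, nat_lit 284, nat_lit 176, nat_lit 140], nat_lit 0),
  ([nat_lit 140, nat_lit 176, nat_lit 140, nat_lit 176, nat_lit 140, nat_lit 176, nat_lit 140, nat_lit 68, nat_lit 248, nat_lit 176], nat_lit 0),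
  ([nat_lit 140, nat_lit 176, nat_lit 140, nat_lit 176, nat_lit 140, nat_lit 68, nat_lit 248, nat_lit 176, nat_lit 140, nat_lit 176], nat_lit 0),
  ([nat_lit 176, nat_lit 140, nat_lit 176, nat_lit 140, nat_lit 176, nat_lit 140, nat_lit 176, nat_lit 140, nat_lit 68, nat_lit 248], nat_lit 0),
  ([nat_lit 176, nat_lit 140, nat_lit 176, nat_lit 140, nat_lit 176, nat_lit 140, nat_lit 68, nat_lit 248, nat_lit 176, nat_lit 140], nat_lit 0),
  ([nat_lit 140, nat_lit 32, nat_lit 140, nat_lit 32, nat_lit 176, nat_lit 284, nat_lit 140, nat_lit 284, nat_lit 140, nat_lit 176], nat_lit 0),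
  ([nat_lit 176, nat_lit 140, nat_lit 176, nat_lit 140, nat_lit 68, nat_lit 248, nat_lit 176, nat_lit 140, nat_lit 176, nat_lit 140], nat_lit 0),
  ([nat_lit 176, nat_lit 140, nat_lit 68, nat_lit 248, nat_lit 176, nat_lit 140, nat_lit 176, nat_lit 140, nat_lit 176, nat_lit 140], nat_lit 0),
  ([nat_lit 140, nat_lit 176, nat_lit 140, nat_lit 68, nat_lit 248, nat_lit 176, nat_lit 140, nat_lit 176, nat_lit 140, nat_lit 176], nat_lit 0),
  ([nat_lit 248, nat_lit 284, nat_lit 284, nat_lit 68], nat_lit 0),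
  ([nat_lit 68, nat_lit 248, nat_lit 176, nat_lit 140, nat_lit 176, nat_lit 140, nat_lit 176, nat_lit 140, nat_lit 176, nat_lit 140], nat_lit 0),
  ([nat_lit 248, nat_lit 68, nat_lit 248, nat_lit 68], nat_lit 0),
  ([nat_lit 68, nat_lit 248, nat_lit 68, nat_lit 248], nat_lit 0),
  ([nat_lit 140, nat_lit 68, nat_lit 248, nat_lit 176, nat_lit 140, nat_lit 176, nat_lit 140, nat_lit 176, nat_lit 140, nat_lit 176], nat_lit 0),
  ([nat_lit 248, nat_lit 176, nat_lit 140, nat_lit 176, nat_lit 140, nat_lit 176, nat_lit 140, nat_lit 176, nat_lit 140, nat_lit 68], nat_lit 0),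
  ([nat_lit 140, nat_lit 176, nat_lit 140, nat_lit 176, nat_lit 140, nat_lit 176, nat_lit 140, nat_lit 176, nat_lit 140, nat_lit 176, nat_lit 140, nat_lit 176, nat_lit 140, nat_lit 176, nat_lit 140, nat_lit 176], nat_lit 0),
  ([nat_lit 176, nat_lit 140, nat_lit 176, nat_lit 140, nat_lit 176, nat_lit 140, nat_lit 176, nat_lit 140, nat_lit 176, nat_lit 140, nat_lit 176, nat_lit 140, nat_lit 176, nat_lit 140, nat_lit 176, nat_lit 140], nat_lit 0)]

noncomputable def gens : List ℕ := [nat_lit 32, nat_lit 68, nat_lit 104, nat_lit 140, nat_lit 176, nat_lit 212, nat_lit 248, nat_lit 284]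

noncomputable def chk : ℕ → Bool := chkRow1 row (nat_lit 194938) (nat_lit 122760) (nat_lit 0x3ffff) (nat_lit 0xffc0000) (nat_lit 28) (nat_lit 0xff) (nat_lit 0) (nat_lit 0x3ffff) (nat_lit 18) (nat_lit 0x1ff) (nat_lit 0xf8000000) (nat_lit 320) (nat_lit 356) (nat_lit 4) [] cols erots gens

end Cfsg.Agent.L0.ONTc1
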